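import Groth.Agent.ModSiteFree.Basic
import Groth.Agent.ModSiteExt.Consequences
import Groth.Agent.KFlat.SchemeStalk
import Groth.Prelude.Def_CxOX

/-!
Extension by zero of the structure module of an open: generators and flatness.
-/

set_option autoImplicit false
set_option linter.style.haveILetI false

universe u

open CategoryTheory Category Limits Opposite AlgebraicGeometry

namespace Groth.Agent.W7ExtZero

variable {X : Scheme.{u}} (V : X.Opens)

/-- the section over the whole open -/
noncomputable def topSec (M : X.Modules)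
    (s : SheafOfModules.sections ((Scheme.Modules.restrictFunctor V.ι).obj M)) :
    M.presheaf.obj (op (V.ι ''ᵁ ⊤)) := s.val (op ⊤)

/-- the family of restrictions of a section -/
noncomputable def ofTop (M : X.Modules) (x : M.presheaf.obj (op (V.ι ''ᵁ ⊤))) :
    SheafOfModules.sections ((Scheme.Modules.restrictFunctor V.ι).obj M) :=
  ⟨fun W => (M.presheaf.map ((V.ι.opensFunctor).map (homOfLE (le_top : W.unop ≤ ⊤))).op x :), fun {W W'} f => by
    change M.presheaf.map (V.ι.opensFunctor.map f.unop).op _ = _
    rw [← ConcreteCategory.comp_apply, ← Functor.map_comp, ← op_comp, ← Functor.map_comp]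
    rfl⟩

lemma topSec_ofTop (M : X.Modules) (x : M.presheaf.obj (op (V.ι ''ᵁ ⊤))) : topSec V M (ofTop V M x) = x := by
  change M.presheaf.map (V.ι.opensFunctor.map (homOfLE (le_top : (⊤ : V.toScheme.Opens) ≤ ⊤))).op x = x
  rw [show homOfLE (le_top : (⊤ : V.toScheme.Opens) ≤ ⊤) = 𝟙 _ from rfl, CategoryTheory.Functor.map_id,
    op_id, CategoryTheory.Functor.map_id]
  rfl

lemma ofTop_topSec (M : X.Modules)
    (s : SheafOfModules.sections ((Scheme.Modules.restrictFunctor V.ι).obj M)) : ofTop V M (topSec V M s) = s :=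
  Subtype.ext (funext fun W => s.property (homOfLE le_top : W.unop ⟶ ⊤).op)

/-- global sections of a restriction are the sections over the open -/
noncomputable def restrictSections (M : X.Modules) :
    SheafOfModules.sections ((Scheme.Modules.restrictFunctor V.ι).obj M) ≃ M.presheaf.obj (op V) :=
  ({ toFun := topSec V M, invFun := ofTop V M, left_inv := ofTop_topSec V M,
     right_inv := topSec_ofTop V M } : _ ≃ M.presheaf.obj (op (V.ι ''ᵁ ⊤))).trans
    (M.presheaf.mapIso (eqToIso (congrArg op V.ι_image_top))).addCommGroupIsoToAddEquiv.toEquiv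

lemma restrictSections_natural {M N : X.Modules} (g : M ⟶ N)
    (s : SheafOfModules.sections ((Scheme.Modules.restrictFunctor V.ι).obj M)) :
    restrictSections V N (SheafOfModules.sectionsMap ((Scheme.Modules.restrictFunctor V.ι).map g) s) =
      g.mapPresheaf.app (op V) (restrictSections V M s) :=
  (NatTrans.naturality_apply g.mapPresheaf (eqToIso (congrArg op V.ι_image_top)).hom (topSec V M s)).symm

/-- `j_!O_V` corepresents sections over `V` -/
noncomputable def extZeroUnitCorep :
    (ModSiteFree.sectFun X.sheaf V).CorepresentableBy (CxOX.extZeroUnit V.ι) where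
  homEquiv {M} := ((CxOX.extZeroAdj V.ι).homEquiv _ M).trans
    ((SheafOfModules.unitHomEquiv ((Scheme.Modules.restrictFunctor V.ι).obj M)).trans (restrictSections V M))
  homEquiv_comp {M N} g f := by
    simp only [Equiv.trans_apply, Adjunction.homEquiv_naturality_right]
    exact restrictSections_natural V g
      (SheafOfModules.unitHomEquiv _ ((CxOX.extZeroAdj V.ι).homEquiv _ M f))

/-- `j_!O_V` is the sheafified free presheaf on `V` -/
noncomputable def extZeroUnitIso : CxOX.extZeroUnit V.ι ≅ (ModSite.sheafify X.sheaf).obj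
    ((PresheafOfModules.free (ModSite.ringSh X.sheaf).obj).obj (yoneda.obj V)) :=
  (extZeroUnitCorep V).uniqueUpToIso (ModSiteFree.freeSheafifyCorep X.sheaf V)

theorem exists_epi_coprod (F : X.Modules) : ∃ (ι : Type u) (U : ι → X.Opens)
    (p : (∐ fun i => CxOX.extZeroUnit (U i).ι) ⟶ F), Epi p ∧
      FlatMod.IsFlat (∐ fun i => CxOX.extZeroUnit (U i).ι) := by
  let M := (SheafOfModules.forget (ModSite.ringSh X.sheaf)).obj F
  let adj := PresheafOfModules.sheafificationAdjunction.{u} (R := ModSite.ringSh X.sheaf)
    (𝟙 (ModSite.ringSh X.sheaf).obj)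
  let L := ModSite.sheafify X.sheaf
  haveI hL : PreservesColimitsOfSize.{u, u} L := adj.leftAdjoint_preservesColimits
  let U : M.Elements → X.Opens := fun m => m.1.unop
  haveI hc : HasColimit (Discrete.functor fun m : M.Elements =>
      L.obj (PresheafOfModules.Elements.freeYoneda m)) := inferInstance
  let e : (∐ fun m => CxOX.extZeroUnit (U m).ι) ≅
      L.obj (∐ PresheafOfModules.Elements.freeYoneda (M := M)) :=
    (Sigma.mapIso fun m => extZeroUnitIso (U m)) ≪≫
      (PreservesCoproduct.iso L (PresheafOfModules.Elements.freeYoneda (M := M))).symm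
  refine ⟨M.Elements, U, e.hom ≫ KFlat.coverπ X.sheaf F, @epi_comp _ _ _ _ _ _ inferInstance _
    (inferInstanceAs (Epi (KFlat.coverπ X.sheaf F))), ?_⟩
  refine KFlat.isFlat_of_flatObj ((KFlat.flatObj_iff X.sheaf _).2 ?_)
  obtain ⟨h1, h2⟩ := (KFlat.flatObj_iff X.sheaf _).1 (KFlat.flatObj_cover X.sheaf F)
  exact ⟨preservesFiniteLimits_of_natIso ((ModSite.tensorBi X.sheaf).flip.mapIso
      (show (∐ fun m => CxOX.extZeroUnit (U m).ι) ≅ KFlat.cover X.sheaf F from e)).symm,
    preservesFiniteColimits_of_natIso ((ModSite.tensorBi X.sheaf).flip.mapIso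
      (show (∐ fun m => CxOX.extZeroUnit (U m).ι) ≅ KFlat.cover X.sheaf F from e)).symm⟩

theorem injective_restrict (I : X.Modules) (hI : Injective I) : Injective (I.restrict V.ι) := by
  haveI := hI
  have h := ModSiteExt.preservesFiniteLimits_extZero X.sheaf V
  have h2 := @comp_preservesFiniteLimits _ _ _ _ _ _ (Scheme.Modules.overEquiv V).inverse
    (ModSite.extZero X.sheaf V) ⟨fun _ => inferInstance⟩ h
  haveI : PreservesFiniteLimits (CxOX.extZero V.ι) :=
    @preservesFiniteLimits_of_natIso _ _ _ _ _ _ (CxOX.extZeroIsoSite V).symm h2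
  exact Injective.injective_of_adjoint (CxOX.extZeroAdj V.ι) I

end Groth.Agent.W7ExtZero
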